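import Groth.Agent.Lib.HFinType4.Model

/-!
# Finite type descends along universally submersive morphisms of Noetherian schemes
-/

set_option autoImplicit false
set_option backward.isDefEq.respectTransparency false
universe u

open CategoryTheory CategoryTheory.Limits AlgebraicGeometry TopologicalSpace

noncomputable section

namespace GrothLib.HFinType4

/-- An algebra is of finite type when it is so modulo a nilpotent finitely generated ideal. -/
theorem finiteType_of_quotient {R B : Type u} [CommRing R] [CommRing B] [Algebra R B] (K : Ideal B)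
    (hK : K.FG) (hn : IsNilpotent K) [Algebra.FiniteType R (B ⧸ K)] : Algebra.FiniteType R B := by
  classical
  obtain ⟨s, hs⟩ := ‹Algebra.FiniteType R (B ⧸ K)›.out
  obtain ⟨t, ht⟩ := hK
  choose l hl using fun x : B ⧸ K => Ideal.Quotient.mk_surjective x
  let C := Algebra.adjoin R ((s.image l ∪ t : Finset B) : Set B)
  refine ⟨⟨s.image l ∪ t, ?_⟩⟩
  show C = ⊤
  have h1 : ∀ b : B, ∃ c ∈ C, b - c ∈ K := fun b => by
    have h2 : Ideal.Quotient.mkₐ R K b ∈ C.map (Ideal.Quotient.mkₐ R K) := by
      have h3 : (⊤ : Subalgebra R (B ⧸ K)) ≤ C.map (Ideal.Quotient.mkₐ R K) := by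
        rw [← hs, Algebra.adjoin_le_iff]
        intro x hx
        exact ⟨l x, Algebra.subset_adjoin (by simp only [Finset.coe_union, Finset.coe_image]; exact Or.inl ⟨x, hx, rfl⟩), hl x⟩
      exact h3 Algebra.mem_top
    obtain ⟨c, hc, hcb⟩ := h2
    exact ⟨c, hc, Ideal.Quotient.eq.1 hcb.symm⟩
  have htC : ∀ x ∈ t, x ∈ C := fun x hx =>
    Algebra.subset_adjoin (by simp only [Finset.coe_union, Finset.coe_image]; exact Or.inr hx)
  have key : ∀ n : ℕ, ∀ b : B, ∃ c ∈ C, b - c ∈ K ^ n := by
    intro n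
    induction n with
    | zero => exact fun b => ⟨0, C.zero_mem, by simp⟩
    | succ n ih =>
      intro b
      obtain ⟨c, hc, hbc⟩ := h1 b
      rw [← ht] at hbc
      obtain ⟨φ, -, hφ⟩ := Submodule.mem_span_finset.1 hbc
      choose d hd hd' using fun x => ih (φ x)
      refine ⟨c + ∑ x ∈ t, d x * x, C.add_mem hc (C.sum_mem fun x hx => C.mul_mem (hd x) (htC x hx)), ?_⟩
      rw [show b - (c + ∑ x ∈ t, d x * x) = ∑ x ∈ t, (φ x - d x) * x by
        rw [← sub_sub, ← hφ, ← Finset.sum_sub_distrib]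
        exact Finset.sum_congr rfl fun x _ => by rw [smul_eq_mul]; ring]
      exact Ideal.sum_mem _ fun x hx => by
        rw [pow_succ]; exact Ideal.mul_mem_mul (hd' x) (ht ▸ Ideal.subset_span hx)
  obtain ⟨n, hn⟩ := hn
  rw [eq_top_iff]
  intro b _
  obtain ⟨c, hc, hbc⟩ := key n b
  rw [hn, Ideal.zero_eq_bot, Ideal.mem_bot, sub_eq_zero] at hbc
  rwa [hbc]

/-- The ring of a fibre product of affine schemes is generated by the two factors. -/
theorem closure_range_union {W X Y Z : Scheme.{u}} [IsAffine W] [IsAffine X] [IsAffine Y] [IsAffine Z] {a : W ⟶ X} {b : W ⟶ Y}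
    {f : X ⟶ Z} {g : Y ⟶ Z} (h : IsPullback a b f g) :
    Subring.closure (Set.range a.appTop.hom ∪ Set.range b.appTop.hom) = ⊤ := by
  let S := Subring.closure (Set.range a.appTop.hom ∪ Set.range b.appTop.hom)
  let ι : CommRingCat.of S ⟶ Γ(W, ⊤) := CommRingCat.ofHom S.subtype
  let a' : Γ(X, ⊤) ⟶ CommRingCat.of S :=
    CommRingCat.ofHom (a.appTop.hom.codRestrict S fun x => Subring.subset_closure (Or.inl ⟨x, rfl⟩))
  let b' : Γ(Y, ⊤) ⟶ CommRingCat.of S :=
    CommRingCat.ofHom (b.appTop.hom.codRestrict S fun x => Subring.subset_closure (Or.inr ⟨x, rfl⟩))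
  have ha : a' ≫ ι = a.appTop := rfl
  have hb : b' ≫ ι = b.appTop := rfl
  have hnat : ∀ {V : Scheme.{u}} [IsAffine V] (c : W ⟶ V), W.isoSpec.inv ≫ c = Spec.map c.appTop ≫ V.isoSpec.inv :=
    fun {V} _ c => (Scheme.isoSpec_inv_naturality c).symm
  let sX := Spec.map a' ≫ X.isoSpec.inv
  let sY := Spec.map b' ≫ Y.isoSpec.inv
  have hia : Spec.map ι ≫ sX = W.isoSpec.inv ≫ a := by
    show Spec.map ι ≫ Spec.map a' ≫ _ = _
    rw [← Spec.map_comp_assoc, ha, hnat]
  have hib : Spec.map ι ≫ sY = W.isoSpec.inv ≫ b := by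
    show Spec.map ι ≫ Spec.map b' ≫ _ = _
    rw [← Spec.map_comp_assoc, hb, hnat]
  have hsxy : sX ≫ f = sY ≫ g := by
    refine ext_of_isAffine ?_
    have hinj : Function.Injective (Spec.map ι).appTop.hom := by
      intro x y hxy
      have h2 : ∀ z, (Scheme.ΓSpecIso Γ(W, ⊤)).hom.hom ((Spec.map ι).appTop.hom z) =
          ι.hom ((Scheme.ΓSpecIso (CommRingCat.of S)).hom.hom z) := fun z =>
        congrArg (fun φ => φ.hom z) (Scheme.ΓSpecIso_naturality ι)
      exact (Scheme.ΓSpecIso (CommRingCat.of S)).commRingCatIsoToRingEquiv.injective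
        (Subtype.val_injective ((h2 x).symm.trans ((congrArg _ hxy).trans (h2 y))))
    have h1 : Spec.map ι ≫ sX ≫ f = Spec.map ι ≫ sY ≫ g := by
      rw [← Category.assoc, hia, ← Category.assoc, hib, Category.assoc, Category.assoc, h.w]
    refine CommRingCat.hom_ext (RingHom.ext fun z => hinj ?_)
    have h3 := congrArg (fun φ => φ.appTop.hom z) h1
    simpa using h3
  let s := h.lift sX sY hsxy
  have hs : Spec.map ι ≫ s = W.isoSpec.inv := h.hom_ext (by rw [Category.assoc, h.lift_fst, hia])
    (by rw [Category.assoc, h.lift_snd, hib])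
  let r : Γ(W, ⊤) ⟶ CommRingCat.of S := s.appTop ≫ (Scheme.ΓSpecIso _).hom
  have hr : r ≫ ι = 𝟙 _ := by
    have h1 : (Spec.map ι ≫ s).appTop = (W.isoSpec.inv).appTop := congrArg _ hs
    rw [Scheme.Hom.comp_appTop] at h1
    show (s.appTop ≫ _) ≫ ι = _
    rw [Category.assoc, ← Scheme.ΓSpecIso_naturality, ← Category.assoc, h1]
    have h2 : W.isoSpec.hom.appTop = (Scheme.ΓSpecIso Γ(W, ⊤)).hom := Scheme.toSpecΓ_appTop W
    rw [← h2, ← Scheme.Hom.comp_appTop, Iso.hom_inv_id]
    rfl
  rw [eq_top_iff]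
  intro x _
  have := congrArg (fun φ => φ.hom x) hr
  rw [show x = (r.hom x : Γ(W, ⊤)) from this.symm]
  exact (r.hom x).2

theorem exists_finset_mem_closure {C B : Type u} [CommRing C] [CommRing B] (ψ : B →+* C) (U : Set C) (c : C)
    (hc : c ∈ Subring.closure (U ∪ Set.range ψ)) :
    ∃ F : Finset B, c ∈ Subring.closure (U ∪ ψ '' (F : Set B)) := by
  classical
  induction hc using Subring.closure_induction with
  | mem x hx =>
    rcases hx with hx | ⟨b, rfl⟩
    · exact ⟨∅, Subring.subset_closure (Or.inl hx)⟩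
    · exact ⟨{b}, Subring.subset_closure (Or.inr ⟨b, by simp, rfl⟩)⟩
  | zero => exact ⟨∅, Subring.zero_mem _⟩
  | one => exact ⟨∅, Subring.one_mem _⟩
  | add x y _ _ hx hy =>
    obtain ⟨F, hF⟩ := hx
    obtain ⟨G, hG⟩ := hy
    exact ⟨F ∪ G, Subring.add_mem _ (Subring.closure_mono (Set.union_subset_union_right _
      (Set.image_mono (by simp))) hF) (Subring.closure_mono (Set.union_subset_union_right _
      (Set.image_mono (by simp))) hG)⟩
  | neg x _ hx => obtain ⟨F, hF⟩ := hx; exact ⟨F, Subring.neg_mem _ hF⟩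
  | mul x y _ _ hx hy =>
    obtain ⟨F, hF⟩ := hx
    obtain ⟨G, hG⟩ := hy
    exact ⟨F ∪ G, Subring.mul_mem _ (Subring.closure_mono (Set.union_subset_union_right _
      (Set.image_mono (by simp))) hF) (Subring.closure_mono (Set.union_subset_union_right _
      (Set.image_mono (by simp))) hG)⟩

theorem isClosedImmersion_of_surjective_appTop {X Y : Scheme.{u}} [IsAffine X] [IsAffine Y] (f : X ⟶ Y)
    (h : Function.Surjective f.appTop.hom) : IsClosedImmersion f :=
  IsClosedImmersion.of_surjective_of_isAffine f h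

set_option maxHeartbeats 1600000 in
/-- The base of a proper surjective morphism from a scheme of finite type is of finite type. -/
theorem finiteType_of_proper {A B : Type u} [CommRing A] [CommRing B] [IsNoetherianRing A] [IsNoetherianRing B]
    [Algebra A B] {P : Scheme.{u}} (p : P ⟶ Spec (CommRingCat.of B)) [IsProper p] [Surjective p]
    [LocallyOfFinitePresentation p]
    (hP : LocallyOfFiniteType (p ≫ Spec.map (CommRingCat.ofHom (algebraMap A B)))) : Algebra.FiniteType A B := by
  classical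
  obtain ⟨A₀, hA₀, X₀, f₀, a, hf₀, sq⟩ := exists_model_proper p
  haveI := hP
  haveI : CompactSpace X₀ := QuasiCompact.compactSpace_of_compactSpace f₀
  let 𝒰 := X₀.affineCover.finiteSubcover
  haveI : ∀ k, IsAffine (𝒰.X k) := fun k => by
    simp only [𝒰, Scheme.OpenCover.finiteSubcover_X]; infer_instance
  haveI : IsAffineHom a := MorphismProperty.of_isPullback sq.flip inferInstance
  haveI : ∀ k, IsAffine (pullback a (𝒰.f k)) := fun k => isAffine_of_isAffineHom (pullback.snd a (𝒰.f k))
  let toB : ∀ k, pullback a (𝒰.f k) ⟶ Spec (CommRingCat.of B) := fun k => pullback.fst a (𝒰.f k) ≫ p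
  let ψ : ∀ k, B →+* Γ(pullback a (𝒰.f k), ⊤) := fun k =>
    ((Scheme.ΓSpecIso (CommRingCat.of B)).inv ≫ (toB k).appTop).hom
  have hgen : ∀ k, Subring.closure (Set.range (pullback.snd a (𝒰.f k)).appTop.hom ∪ Set.range (ψ k)) = ⊤ := fun k => by
    have h1 : IsPullback (pullback.snd a (𝒰.f k)) (toB k) (𝒰.f k ≫ f₀) (Spec.map (CommRingCat.ofHom A₀.val.toRingHom)) :=
      (IsPullback.of_hasPullback a (𝒰.f k)).flip.paste_vert sq
    have h2 := closure_range_union h1
    rw [show Set.range (ψ k) = Set.range (toB k).appTop.hom by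
      show Set.range ((toB k).appTop.hom ∘ (Scheme.ΓSpecIso (CommRingCat.of B)).inv.hom) = _
      exact Function.Surjective.range_comp (Scheme.ΓSpecIso (CommRingCat.of B)).symm.commRingCatIsoToRingEquiv.surjective _]
    exact h2
  have hft : ∀ k, ((Scheme.ΓSpecIso (CommRingCat.of A)).inv ≫
      (toB k ≫ Spec.map (CommRingCat.ofHom (algebraMap A B))).appTop).hom.FiniteType := fun k => by
    have h1 : LocallyOfFiniteType (toB k ≫ Spec.map (CommRingCat.ofHom (algebraMap A B))) := by
      rw [Category.assoc]; infer_instance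
    rw [CommRingCat.hom_comp]
    exact RingHom.finiteType_respectsIso.2 _ (Scheme.ΓSpecIso (CommRingCat.of A)).symm.commRingCatIsoToRingEquiv
      (HasRingHomProperty.appTop @LocallyOfFiniteType _ h1)
  have hA : ∀ k, (Scheme.ΓSpecIso (CommRingCat.of A)).inv ≫
      (toB k ≫ Spec.map (CommRingCat.ofHom (algebraMap A B))).appTop =
      CommRingCat.ofHom (algebraMap A B) ≫ CommRingCat.ofHom (ψ k) := fun k => by
    rw [Scheme.Hom.comp_appTop, ← Category.assoc, ← Scheme.ΓSpecIso_inv_naturality, Category.assoc]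
    rfl
  have hF : ∀ k, ∃ F : Finset B, Subring.closure (Set.range (pullback.snd a (𝒰.f k)).appTop.hom ∪
      ψ k '' (Set.range (algebraMap A B) ∪ F)) = ⊤ := fun k => by
    have h1 := hft k
    rw [hA k, CommRingCat.hom_comp] at h1
    letI := ((ψ k).comp (algebraMap A B)).toAlgebra
    obtain ⟨s, hs⟩ := (h1 : Algebra.FiniteType A Γ(pullback a (𝒰.f k), ⊤)).out
    choose F hF using fun c => exists_finset_mem_closure (ψ k) (Set.range (pullback.snd a (𝒰.f k)).appTop.hom) c
      (hgen k ▸ Subring.mem_top c)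
    refine ⟨s.biUnion F, eq_top_iff.2 fun x hxtop => ?_⟩
    clear hxtop
    have hx : x ∈ Algebra.adjoin A (s : Set Γ(pullback a (𝒰.f k), ⊤)) := hs ▸ Algebra.mem_top
    induction hx using Algebra.adjoin_induction with
    | mem c hc =>
      exact Subring.closure_mono (Set.union_subset_union_right _ (Set.image_mono (Set.subset_union_of_subset_right
        (Finset.coe_subset.2 (Finset.subset_biUnion_of_mem F hc)) _))) (hF c)
    | algebraMap r => exact Subring.subset_closure (Or.inr ⟨algebraMap A B r, Or.inl ⟨r, rfl⟩, rfl⟩)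
    | add x y _ _ hx hy => exact Subring.add_mem _ hx hy
    | mul x y _ _ hx hy => exact Subring.mul_mem _ hx hy
  choose F hF using hF
  haveI := Fintype.ofFinite 𝒰.I₀
  obtain ⟨t₀, ht₀⟩ := hA₀
  let B₂ : Subalgebra A B := Algebra.adjoin A ((t₀ ∪ Finset.univ.biUnion F : Finset B) : Set B)
  haveI hB₂ft : Algebra.FiniteType A B₂ :=
    (Subalgebra.fg_iff_finiteType _).1 ⟨_, rfl⟩
  haveI : IsNoetherianRing B₂ := Algebra.FiniteType.isNoetherianRing A _
  have hle : ∀ x ∈ A₀, x ∈ B₂ := by
    rw [← ht₀]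
    intro x hx
    induction hx using Algebra.adjoin_induction with
    | mem c hc => exact Algebra.subset_adjoin (by simp only [Finset.coe_union]; exact Or.inl hc)
    | algebraMap r => simpa using intCast_mem B₂ r
    | add x y _ _ hx hy => exact B₂.add_mem hx hy
    | mul x y _ _ hx hy => exact B₂.mul_mem hx hy
  let i₁ : CommRingCat.of A₀ ⟶ CommRingCat.of B₂ :=
    CommRingCat.ofHom (A₀.val.toRingHom.codRestrict B₂ fun x => hle x.1 x.2)
  let i₂ : CommRingCat.of B₂ ⟶ CommRingCat.of B := CommRingCat.ofHom B₂.val.toRingHom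
  have hi : i₁ ≫ i₂ = CommRingCat.ofHom A₀.val.toRingHom := rfl
  let h : P ⟶ pullback f₀ (Spec.map i₁) := pullback.lift a (p ≫ Spec.map i₂) (by
    rw [Category.assoc, ← Spec.map_comp, hi]; exact sq.w)
  haveI : IsClosedImmersion h := by
    refine IsZariskiLocalAtTarget.of_openCover (P := @IsClosedImmersion)
      (Precoverage.ZeroHypercover.pullback₁ (pullback.fst f₀ (Spec.map i₁)) 𝒰) fun k => ?_
    let fst₂ := pullback.fst f₀ (Spec.map i₁)
    let cf : pullback fst₂ (𝒰.f k) ⟶ pullback f₀ (Spec.map i₁) := pullback.fst fst₂ (𝒰.f k)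
    show IsClosedImmersion (pullback.snd h cf)
    haveI : IsAffineHom (pullback.fst f₀ (Spec.map i₁)) :=
      MorphismProperty.pullback_fst (P := @IsAffineHom) _ _ inferInstance
    haveI : IsAffine (pullback fst₂ (𝒰.f k)) := isAffine_of_isAffineHom (pullback.snd fst₂ (𝒰.f k))
    have hQ : IsPullback (pullback.fst h cf) (pullback.snd h cf ≫ pullback.snd fst₂ (𝒰.f k)) a (𝒰.f k) := by
      have := (IsPullback.of_hasPullback h cf).flip.paste_horiz (IsPullback.of_hasPullback fst₂ (𝒰.f k)).flip
      rw [pullback.lift_fst] at this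
      exact this.flip
    let e := hQ.isoPullback
    haveI : IsAffine (pullback h cf) := .of_isIso e.hom
    refine isClosedImmersion_of_surjective_appTop _ fun y => ?_
    obtain ⟨x, rfl⟩ := (ConcreteCategory.bijective_of_isIso e.hom.appTop).2 y
    have hx : x ∈ Subring.closure (Set.range (pullback.snd a (𝒰.f k)).appTop.hom ∪
        ψ k '' (Set.range (algebraMap A B) ∪ F k)) := hF k ▸ Subring.mem_top x
    induction hx using Subring.closure_induction with
    | mem z hz =>
      rcases hz with ⟨r, rfl⟩ | ⟨b, hb, rfl⟩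
      · refine ⟨(pullback.snd fst₂ (𝒰.f k)).appTop.hom r, ?_⟩
        rw [← CommRingCat.comp_apply, ← Scheme.Hom.comp_appTop, ← hQ.isoPullback_hom_snd,
          Scheme.Hom.comp_appTop, CommRingCat.comp_apply]
      · have hb2 : b ∈ B₂ := by
          rcases hb with ⟨r, rfl⟩ | hb
          · exact B₂.algebraMap_mem r
          · exact Algebra.subset_adjoin (by
              simp only [Finset.coe_union]
              exact Or.inr (Finset.mem_biUnion.2 ⟨k, Finset.mem_univ _, hb⟩))
        refine ⟨(cf ≫ pullback.snd f₀ (Spec.map i₁)).appTop.hom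
          ((Scheme.ΓSpecIso (CommRingCat.of B₂)).inv.hom ⟨b, hb2⟩), ?_⟩
        have e1 : pullback.snd h cf ≫ cf ≫ pullback.snd f₀ (Spec.map i₁) = e.hom ≫ toB k ≫ Spec.map i₂ := by
          rw [← pullback.condition_assoc, pullback.lift_snd]
          show _ = e.hom ≫ (pullback.fst a (𝒰.f k) ≫ p) ≫ _
          rw [Category.assoc, hQ.isoPullback_hom_fst_assoc]
        rw [← CommRingCat.comp_apply, ← Scheme.Hom.comp_appTop, e1, Scheme.Hom.comp_appTop, CommRingCat.comp_apply,
          Scheme.Hom.comp_appTop, CommRingCat.comp_apply, ← CommRingCat.comp_apply _ (Spec.map i₂).appTop,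
          ← Scheme.ΓSpecIso_inv_naturality]
        rfl
    | zero => exact ⟨0, by simp⟩
    | one => exact ⟨1, by simp⟩
    | add u v _ _ hu hv => obtain ⟨u', hu'⟩ := hu; obtain ⟨v', hv'⟩ := hv; exact ⟨u' + v', by simp [hu', hv']⟩
    | neg u _ hu => obtain ⟨u', hu'⟩ := hu; exact ⟨-u', by simp [hu']⟩
    | mul u v _ _ hu hv => obtain ⟨u', hu'⟩ := hu; obtain ⟨v', hv'⟩ := hv; exact ⟨u' * v', by simp [hu', hv']⟩
  haveI : IsProper (p ≫ Spec.map i₂) := by
    rw [← pullback.lift_snd (f := f₀) (g := Spec.map i₁) a (p ≫ Spec.map i₂) (by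
      rw [Category.assoc, ← Spec.map_comp, hi]; exact sq.w)]
    infer_instance
  let g : B →+* Γ(P, ⊤) := ((Scheme.ΓSpecIso (CommRingCat.of B)).inv ≫ p.appTop).hom
  have hfin : (g.comp B₂.val.toRingHom).Finite := by
    have h1 := GrothLib.Stein.finite_toGlobal B₂ (p ≫ Spec.map i₂)
    have h2 : (Scheme.ΓSpecIso (CommRingCat.of B₂)).inv ≫ (p ≫ Spec.map i₂).appTop =
        i₂ ≫ (Scheme.ΓSpecIso (CommRingCat.of B)).inv ≫ p.appTop := by
      rw [Scheme.Hom.comp_appTop, ← Category.assoc, ← Scheme.ΓSpecIso_inv_naturality, Category.assoc]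
    rw [h2] at h1
    exact h1
  let K := RingHom.ker g
  have hKn : IsNilpotent K := by
    refine (IsNoetherianRing.isNilpotent_nilradical B).elim fun n hn => ⟨n, ?_⟩
    have hle : K ≤ nilradical B := fun b hb => by
      rw [mem_nilradical, ← PrimeSpectrum.basicOpen_eq_bot_iff]
      ext x
      refine ⟨fun hx => ?_, fun hx => hx.elim⟩
      obtain ⟨y, hy⟩ := p.surjective x
      have h3 : p ⁻¹ᵁ (Spec (CommRingCat.of B)).basicOpen ((Scheme.ΓSpecIso (CommRingCat.of B)).inv.hom b) = ⊥ := by
        rw [Scheme.preimage_basicOpen]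
        have : p.appTop.hom ((Scheme.ΓSpecIso (CommRingCat.of B)).inv.hom b) = 0 := hb
        show P.basicOpen (p.appTop.hom _) = ⊥
        rw [this, Scheme.basicOpen_zero]
      have h4 : y ∈ p ⁻¹ᵁ (Spec (CommRingCat.of B)).basicOpen ((Scheme.ΓSpecIso (CommRingCat.of B)).inv.hom b) := by
        show p y ∈ (Spec (CommRingCat.of B)).basicOpen ((Scheme.ΓSpecIso (CommRingCat.of B)).inv.hom b)
        rw [hy, basicOpen_eq_of_affine]
        exact hx
      rw [h3] at h4
      exact h4.elim
    exact le_bot_iff.1 ((Ideal.pow_right_mono hle n).trans_eq hn)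
  haveI : Algebra.FiniteType A (B ⧸ K) := by
    letI : Algebra B₂ Γ(P, ⊤) := (g.comp B₂.val.toRingHom).toAlgebra
    haveI : Module.Finite B₂ Γ(P, ⊤) := hfin
    haveI : IsNoetherian B₂ Γ(P, ⊤) := isNoetherian_of_isNoetherianRing_of_finite B₂ _
    let φ : (B ⧸ K) →ₗ[B₂] Γ(P, ⊤) :=
      { toFun := g.kerLift
        map_add' := map_add _
        map_smul' := fun c x => by
          obtain ⟨b, rfl⟩ := Ideal.Quotient.mk_surjective x
          show g ((c : B) * b) = g (c : B) * g b
          rw [map_mul] }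
    haveI : Module.Finite B₂ (B ⧸ K) := Module.Finite.of_injective φ (RingHom.kerLift_injective g)
    haveI : Algebra.FiniteType B₂ (B ⧸ K) := inferInstance
    exact Algebra.FiniteType.trans (S := B₂) inferInstance inferInstance
  exact finiteType_of_quotient K (IsNoetherian.noetherian K) hKn

set_option maxHeartbeats 1000000 in
/-- The affine case. -/
theorem finiteType_of_univSubmersive {A B : CommRingCat.{u}} [IsNoetherianRing A] [IsNoetherianRing B]
    {X' : Scheme.{u}} [IsNoetherian X'] (f : X' ⟶ Spec B) (hf : SGA1.UnivSubmersive f) (φ : A ⟶ B)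
    [LocallyOfFiniteType (f ≫ Spec.map φ)] : φ.hom.FiniteType := by
  haveI : LocallyOfFiniteType f := locallyOfFiniteType_of_comp f (Spec.map φ)
  haveI : LocallyOfFinitePresentation f := inferInstance
  haveI : QuasiSeparatedSpace X' := inferInstance
  haveI : QuasiCompact f := quasiCompact_of_compactSpace f
  have hs : Subtr.UnivSSubtrusive f := (Groth.Agent.S14770.result f).1 hf
  obtain ⟨X'', P, h, p, q, hhf, _, _, hloc, _, _, _⟩ :=
    Groth.Agent.S14782.result f (Or.inr inferInstance) hs
  choose U hxU hU using hloc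
  have hp : LocallyOfFiniteType p := IsZariskiLocalAtSource.of_openCover (P := @LocallyOfFiniteType)
    (X''.openCoverOfIsOpenCover U (TopologicalSpace.IsOpenCover.mk (eq_top_iff.2 fun x _ =>
      TopologicalSpace.Opens.mem_iSup.2 ⟨x, hxU x⟩))) fun x => by
      haveI := hU x
      show LocallyOfFiniteType ((U x).ι ≫ p)
      infer_instance
  haveI : LocallyOfFiniteType (h ≫ f) := by rw [hhf]; infer_instance
  haveI : LocallyOfFiniteType h := locallyOfFiniteType_of_comp h f
  let 𝒱 : P.OpenCover :=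
    { I₀ := X'', X := fun x => U x, f := fun x => (U x).ι ≫ p
      mem₀ := by
        rw [Scheme.presieve₀_mem_precoverage_iff]
        refine ⟨fun y => ?_, fun x => hU x⟩
        obtain ⟨x, hx⟩ := p.surjective y
        exact ⟨x, ⟨x, hxU x⟩, by rw [Scheme.Hom.comp_apply]; exact hx⟩ }
  haveI : LocallyOfFiniteType (q ≫ Spec.map φ) :=
    IsZariskiLocalAtSource.of_openCover (P := @LocallyOfFiniteType) 𝒱 fun x => by
      show LocallyOfFiniteType (((U x).ι ≫ p) ≫ q ≫ Spec.map φ)
      rw [Category.assoc, ← Category.assoc p, ← hhf, Category.assoc]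
      infer_instance
  letI := φ.hom.toAlgebra
  exact (finiteType_of_proper (A := A) (B := B) q ‹_› : Algebra.FiniteType A B)

/-- Finite type descends along universally submersive morphisms of Noetherian schemes. -/
theorem locallyOfFiniteType_of_univSubmersive {X' X Y : Scheme.{u}} [IsNoetherian X'] [IsNoetherian X]
    [IsNoetherian Y] (f : X' ⟶ X) (hf : SGA1.UnivSubmersive f) (g : X ⟶ Y) [LocallyOfFiniteType (f ≫ g)] :
    LocallyOfFiniteType g := by
  haveI : LocallyOfFiniteType f := locallyOfFiniteType_of_comp f g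
  haveI : QuasiCompact f := quasiCompact_of_compactSpace f
  refine ⟨fun {U} hU {V} hV e => ?_⟩
  haveI : IsNoetherianRing Γ(Y, U) := IsLocallyNoetherian.component_noetherian ⟨U, hU⟩
  haveI : IsNoetherianRing Γ(X, V) := IsLocallyNoetherian.component_noetherian ⟨V, hV⟩
  let X'V := pullback f hV.fromSpec
  let f' : X'V ⟶ Spec Γ(X, V) := pullback.snd f hV.fromSpec
  haveI : SGA1.UnivSubmersive.{u}.IsStableUnderBaseChange := MorphismProperty.universally_isStableUnderBaseChange _
  have hf' : SGA1.UnivSubmersive f' :=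
    MorphismProperty.of_isPullback (P := SGA1.UnivSubmersive) (IsPullback.of_hasPullback f hV.fromSpec) hf
  haveI : IsLocallyNoetherian X'V := LocallyOfFiniteType.isLocallyNoetherian f'
  haveI : CompactSpace X'V := QuasiCompact.compactSpace_of_compactSpace f'
  haveI : IsNoetherian X'V := {}
  haveI : LocallyOfFiniteType ((f' ≫ Spec.map (g.appLE U V e)) ≫ hU.fromSpec) := by
    rw [Category.assoc, IsAffineOpen.SpecMap_appLE_fromSpec g hU hV e, ← pullback.condition_assoc]
    infer_instance
  haveI : LocallyOfFiniteType (f' ≫ Spec.map (g.appLE U V e)) := locallyOfFiniteType_of_comp _ hU.fromSpec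
  exact finiteType_of_univSubmersive f' hf' (g.appLE U V e)

end GrothLib.HFinType4
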