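import Groth.Agent.Lib.HSquare4.Main
import Groth.Agent.Lib.Stein.Finite
import Groth.Agent.S14782
import Groth.Agent.S14770

/-!
# Finite type descends along universally submersive morphisms
-/

set_option autoImplicit false
set_option backward.isDefEq.respectTransparency false
universe u

open CategoryTheory CategoryTheory.Limits AlgebraicGeometry TopologicalSpace Opposite

noncomputable section

namespace GrothLib.HFinType4

set_option maxHeartbeats 1000000 in
/-- A proper surjective morphism of finite presentation comes from a finitely generated subring. -/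
theorem exists_model_proper {B : Type u} [CommRing B] {X : Scheme.{u}} (f' : X ⟶ Spec (CommRingCat.of B))
    [IsProper f'] [Surjective f'] [LocallyOfFinitePresentation f'] :
    ∃ (A₀ : Subalgebra ℤ B) (_ : A₀.FG) (X₀ : Scheme.{u}) (f₀ : X₀ ⟶ Spec (CommRingCat.of A₀)) (a : X ⟶ X₀),
      IsProper f₀ ∧ IsPullback a f' f₀ (Spec.map (CommRingCat.ofHom A₀.val.toRingHom)) := by
  obtain ⟨A₀, hA₀, X₀, f₀, a, sq, _, _, _, hu⟩ :=
    (Groth.Agent.S14792.result B f').mp (GrothLib.HSquare4.univSSubtrusive_of_universallyClosed f')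
  let D := GrothLib.LimDescend.fgDiagram B
  let c := GrothLib.LimDescend.fgCone B
  let i₀ : (GrothLib.LimDescend.FgSub B)ᵒᵖ := op ⟨A₀, hA₀⟩
  let f₁ : X₀ ⟶ D.obj i₀ := f₀
  haveI : LocallyOfFinitePresentation f₁ := inferInstanceAs (LocallyOfFinitePresentation f₀)
  haveI : QuasiCompact f₁ := inferInstanceAs (QuasiCompact f₀)
  haveI : QuasiSeparated f₁ := inferInstanceAs (QuasiSeparated f₀)
  haveI : CompactSpace X₀ := QuasiCompact.compactSpace_of_compactSpace f₀
  haveI : QuasiSeparatedSpace X₀ := quasiSeparatedSpace_of_quasiSeparated f₀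
  haveI : Surjective f₁ := ⟨fun y => by
    obtain ⟨x, -, -, hx, -⟩ := (GrothLib.SubtrRefine4.univSSubtrusive_of_univSubmersive A₀ hA₀ f₀ hu)
      _ _ _ IsPullback.of_id_snd (y := y) (y' := y) specializes_rfl
    exact ⟨x, hx⟩⟩
  have hY : IsPullback (c.π.app i₀) (𝟙 c.pt) (𝟙 (D.obj i₀)) (c.π.app i₀) := IsPullback.of_id_fst.flip
  obtain ⟨j, hj⟩ := GrothLib.LimDesc.exists_isProper D (GrothLib.LimDescend.isLimitFgCone B) f₁
    (𝟙 (D.obj i₀)) hY sq
  let gk := pullback.snd (𝟙 (D.obj i₀)) (D.map j.hom)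
  haveI : IsIso gk := inferInstance
  let fk := (GrothLib.LimDesc.mapNat D i₀ (𝟙 (D.obj i₀)) (f₁ ≫ 𝟙 _) f₁ rfl).app j
  have hfk := GrothLib.LimDesc.isPullback_mapNat D i₀ (𝟙 (D.obj i₀)) (f₁ ≫ 𝟙 _) f₁ rfl j
  let fs := fk ≫ gk
  have hsq : IsPullback (pullback.fst (f₁ ≫ 𝟙 _) (D.map j.hom)) fs f₁ (D.map j.hom) := by
    have h := hfk.paste_vert (IsPullback.of_hasPullback (𝟙 (D.obj i₀)) (D.map j.hom))
    exact h.of_iso (Iso.refl _) (Iso.refl _) (Iso.refl _) (Iso.refl _) (by simp) (by simp [fs, fk, gk]) (by simp) (by simp)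
  have hsq' : IsPullback (hsq.lift a (f' ≫ c.π.app j.left)
      (by rw [Category.assoc, Cone.w]; exact sq.w)) f' fs (c.π.app j.left) := by
    refine IsPullback.of_right ?_ (hsq.lift_snd _ _ _) hsq
    rw [hsq.lift_fst, Cone.w]
    exact sq
  haveI : IsProper fs := (MorphismProperty.cancel_right_of_respectsIso @IsProper fk gk).mpr hj
  exact ⟨j.left.unop.1, j.left.unop.2, _, fs, _, inferInstance, hsq'⟩

end GrothLib.HFinType4
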